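import Cfsg.Agent.CosetCert.J4M24QMem.Defs

/-! Generated: kernel checks. -/

set_option Elab.async false

namespace Cfsg.Agent.CosetCert.J4M24QMem

theorem log_okAt0 : allFrom data.checkLog 0 1500 = true := by decide +kernel

theorem log_okAt1500 : allFrom data.checkLog 1500 1500 = true := by decide +kernel

theorem log_okAt3000 : allFrom data.checkLog 3000 1500 = true := by decide +kernel

theorem log_okAt4500 : allFrom data.checkLog 4500 67 = true := by decide +kernel

end Cfsg.Agent.CosetCert.J4M24QMem
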