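import Cfsg.Agent.CosetCert.J4M24QMem.FactsData
import Cfsg.Agent.CosetCert.J4M24QMem.JustData
import Cfsg.Agent.CosetCert.CoxExtra
import Cfsg.Agent.CosetCert.Pack

/-! Generated: the certificate. -/

set_option maxRecDepth 100000

namespace Cfsg.Agent.CosetCert.J4M24QMem

noncomputable def data : Data where
  K := 4
  n := 0
  M := 3354
  Nf := 4567
  nR := 12
  iv := fun x => if x < 2 then x + 2 else if x < 4 then x - 2 else x
  F := get48 factStore
  J := getVar justStore
  E := fun _ => 0
  L := fun _ => 0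
  P := fun _ => 0
  W := [
    [0, 0],
    [1, 1, 1],
    [0, 1, 0, 1, 0, 3, 0, 1, 0, 1, 0, 3, 0, 1, 0, 1, 0, 3, 0, 1, 0, 3, 0, 3, 0, 1, 0, 3, 0, 3, 0, 1, 0, 3, 0, 3],
    [2, 3, 2, 3, 0, 1, 0, 1, 2, 3, 2, 3, 0, 1, 0, 1, 2, 3, 2, 3, 0, 1, 0, 1, 2, 3, 2, 3, 0, 1, 0, 1, 2, 3, 2, 3, 0, 1, 0, 1],
    [0, 1, 0, 1, 0, 1, 0, 1, 0, 1, 0, 1, 0, 1, 0, 1, 0, 1, 0, 1, 0, 1, 0, 1, 0, 1, 0, 1, 0, 1, 0, 1, 0, 1, 0, 1, 0, 1, 0, 1, 0, 1, 0, 1, 0, 1],
    [2, 3, 0, 1, 2, 3, 0, 1, 2, 3, 0, 1, 2, 3, 0, 1, 2, 3, 0, 1, 2, 3, 0, 1, 2, 3, 0, 1, 2, 3, 0, 1, 2, 3, 0, 1, 2, 3, 0, 1, 2, 3, 0, 1, 2, 3, 0, 1],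
    [0, 1, 0, 1, 0, 3, 0, 1, 0, 3, 0, 1, 0, 3, 0, 1, 0, 1, 0, 3, 0, 1, 0, 3, 0, 1, 0, 3, 0, 1, 0, 1, 0, 3, 0, 1, 0, 3, 0, 1, 0, 3, 0, 1, 0, 1, 0, 3, 0, 1, 0, 3, 0, 1, 0, 3],
    [],
    [0, 2],
    [1, 3],
    [2, 0],
    [3, 1]]
  PW := fun k => Nat.land (Nat.shiftRight 0x1100000000000000000000000000000000000000000000000000000000000000000000230000000000000000000000000000000000000000000000000000000000000000000208000000000000000000000000000000000000000000000000000000000000000000061000000000000000000000000000000000000000000000000000000000000000000000204412044120441104811048110481104412044120441204411048110481104811044100000000004120c4120c4120c4120c4120c4120c4120c4120c4120c4120c4120c4120c00000000000041104411044110441104411044110441104411044110441104411044100000000000000000000411048320c411048320c411048320c411048320c411048320c0000000000000000000000002048110481204412048110481104412044110481104410000000000000000000000000000000000000000000000000000000000000000002108000000000000000000000000000000000000000000000000000000000000000000021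 (Nat.mul 278 k)) 0x3fffffffffffffffffffffffffffffffffffffffffffffffffffffffffffffffffffff
  powers := [
    ([0, 0], 1),
    ([1, 1, 1], 1),
    ([0, 1, 0, 1, 0, 3, 0, 1, 0, 1, 0, 3, 0, 1, 0, 1, 0, 3, 0, 1, 0, 3, 0, 3, 0, 1, 0, 3, 0, 3, 0, 1, 0, 3, 0, 3], 1),
    ([2, 3, 2, 3, 0, 1, 0, 1, 2, 3, 2, 3, 0, 1, 0, 1, 2, 3, 2, 3, 0, 1, 0, 1, 2, 3, 2, 3, 0, 1, 0, 1, 2, 3, 2, 3, 0, 1, 0, 1], 1),
    ([0, 1, 0, 1, 0, 1, 0, 1, 0, 1, 0, 1, 0, 1, 0, 1, 0, 1, 0, 1, 0, 1, 0, 1, 0, 1, 0, 1, 0, 1, 0, 1, 0, 1, 0, 1, 0, 1, 0, 1, 0, 1, 0, 1, 0, 1], 1),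
    ([2, 3, 0, 1, 2, 3, 0, 1, 2, 3, 0, 1, 2, 3, 0, 1, 2, 3, 0, 1, 2, 3, 0, 1, 2, 3, 0, 1, 2, 3, 0, 1, 2, 3, 0, 1, 2, 3, 0, 1, 2, 3, 0, 1, 2, 3, 0, 1], 1),
    ([0, 1, 0, 1, 0, 3, 0, 1, 0, 3, 0, 1, 0, 3, 0, 1, 0, 1, 0, 3, 0, 1, 0, 3, 0, 1, 0, 3, 0, 1, 0, 1, 0, 3, 0, 1, 0, 3, 0, 1, 0, 3, 0, 1, 0, 1, 0, 3, 0, 1, 0, 3, 0, 1, 0, 3], 1),
    ([], 1),
    ([0, 2], 1),
    ([1, 3], 1),
    ([2, 0], 1),
    ([3, 1], 1)]

/-- The relators. -/
def relWords : List (List (Fin 2 × Bool)) := [
    [(0, true), (0, true)],
    [(1, true), (1, true), (1, true)],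
    [(0, true), (1, true), (0, true), (1, true), (0, true), (1, false), (0, true), (1, true), (0, true), (1, true), (0, true), (1, false), (0, true), (1, true), (0, true), (1, true), (0, true), (1, false), (0, true), (1, true), (0, true), (1, false), (0, true), (1, false), (0, true), (1, true), (0, true), (1, false), (0, true), (1, false), (0, true), (1, true), (0, true), (1, false), (0, true), (1, false)],
    [(0, false), (1, false), (0, false), (1, false), (0, true), (1, true), (0, true), (1, true), (0, false), (1, false), (0, false), (1, false), (0, true), (1, true), (0, true), (1, true), (0, false), (1, false), (0, false), (1, false), (0, true), (1, true), (0, true), (1, true), (0, false), (1, false), (0, false), (1, false), (0, true), (1, true), (0, true), (1, true), (0, false), (1, false), (0, false), (1, false), (0, true), (1, true), (0, true), (1, true)],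
    [(0, true), (1, true), (0, true), (1, true), (0, true), (1, true), (0, true), (1, true), (0, true), (1, true), (0, true), (1, true), (0, true), (1, true), (0, true), (1, true), (0, true), (1, true), (0, true), (1, true), (0, true), (1, true), (0, true), (1, true), (0, true), (1, true), (0, true), (1, true), (0, true), (1, true), (0, true), (1, true), (0, true), (1, true), (0, true), (1, true), (0, true), (1, true), (0, true), (1, true), (0, true), (1, true), (0, true), (1, true), (0, true), (1, true)],
    [(0, false), (1, false), (0, true), (1, true), (0, false), (1, false), (0, true), (1, true), (0, false), (1, false), (0, true), (1, true), (0, false), (1, false), (0, true), (1, true), (0, false), (1, false), (0, true), (1, true), (0, false), (1, false), (0, true), (1, true), (0, false), (1, false), (0, true), (1, true), (0, false), (1, false), (0, true), (1, true), (0, false), (1, false), (0, true), (1, true), (0, false), (1, false), (0, true), (1, true), (0, false), (1, false), (0, true), (1, true), (0,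 false), (1, false), (0, true), (1, true)],
    [(0, true), (1, true), (0, true), (1, true), (0, true), (1, false), (0, true), (1, true), (0, true), (1, false), (0, true), (1, true), (0, true), (1, false), (0, true), (1, true), (0, true), (1, true), (0, true), (1, false), (0, true), (1, true), (0, true), (1, false), (0, true), (1, true), (0, true), (1, false), (0, true), (1, true), (0, true), (1, true), (0, true), (1, false), (0, true), (1, true), (0, true), (1, false), (0, true), (1, true), (0, true), (1, false), (0, true), (1, true), (0, true), (1, true), (0, true), (1, false), (0, true), (1, true), (0, true), (1, false), (0, true), (1, true), (0, true), (1, false)]]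

/-- The subgroup's generators. -/
def subWords : List (List (Fin 2 × Bool)) := []

/-- The numbering of the generators. -/
def enc (b : Fin 2) : Nat := b.val

/-- The generator of a number. -/
def dec (x : Nat) : Fin 2 × Bool := if x < 2 then (Fin.ofNat 2 x, true) else (Fin.ofNat 2 x, false)

end Cfsg.Agent.CosetCert.J4M24QMem
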