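import Cfsg.Agent.CosetCert.J4M24QMem.CheckLog
import Cfsg.Agent.CosetCert.Member

/-! Generated: the conclusion. -/

set_option maxRecDepth 100000

namespace Cfsg.Agent.CosetCert.J4M24QMem

theorem mem_valid : data.MemValid where
  log := log_ok
  iv_iv := by decide +kernel
  iv_big := fun x hx => by
    change 4 ≤ x at hx
    show (if x < 2 then x + 2 else if x < 4 then x - 2 else x) = x
    split_ifs <;> omega
  pw := by decide +kernel
  letters := by decide +kernel
  K_small := by decide +kernel
  nR_le := by decide +kernel

theorem spells : Data.Spells data (wordRels relWords) (subWords.map FreeGroup.mk) enc dec relWords := by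
  apply spells_words_extra data
  · show ∀ b : Fin 2, _
    decide +kernel
  · decide +kernel
  · intro x hx
    left
    revert x
    decide +kernel
  · decide +kernel
  · decide +kernel

/-- The words shown to be relations. -/
def targets : List (List (Fin 2 × Bool)) := [
    [(1, true), (1, true), (1, true)],
    [(0, true), (1, false), (0, true), (1, true), (0, true), (1, false), (0, true), (1, true), (0, true), (0, true), (1, false), (0, true), (1, true), (0, true), (1, false), (0, true), (1, true), (0, true)],
    [(1, true), (0, true), (1, true), (0, true), (1, false), (0, true), (1, false), (0, true), (1, true), (0, true), (1, true), (0, true), (1, false), (0, true), (1, false), (0, true), (1, true), (0, true), (1, true), (0, true), (1, false), (0, true), (1, false), (0, true), (1, true), (0, true), (1, true), (0, true), (1, false), (0, true), (1, false), (0, true), (1, true), (0, true), (1, true), (0, true), (1, false), (0, true), (1, false), (0, true)],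
    [(1, true), (0, true), (1, true), (0, true), (1, false), (0, true), (1, false), (0, true), (0, true), (1, false), (0, true), (1, true), (0, true), (1, false), (0, true), (1, true), (0, true), (1, true), (0, true), (1, false), (0, true), (1, true), (0, true), (1, false), (0, true), (1, true), (1, true), (0, false), (1, true), (0, false), (1, false), (0, false), (1, false), (0, true), (1, true), (0, true), (1, false), (0, true), (1, false), (0, true)],
    [(1, true), (0, true), (1, false), (0, true), (1, true), (0, true), (1, false), (0, true), (1, true), (0, true), (1, true), (0, true), (1, false), (0, true), (1, true), (0, true), (1, false), (0, true), (1, true), (0, true), (1, false), (0, false), (1, true), (0, false), (1, true), (0, false), (1, false), (0, false), (1, true), (0, true), (1, false), (0, true), (1, true), (0, true), (1, false), (0, true), (1, true), (0, true), (1, true), (0, false), (1, false), (0, false), (1, true), (0, false), (1, false), (0, false), (1, true), (0, false), (1, false), (0, false), (1, true), (0, false), (1, true), (0, false), (1, false), (0, false)],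
    [(1, true), (0, true), (1, false), (0, true), (1, true), (0, true), (1, false), (0, true), (1, true), (1, true), (0, false), (1, true), (0, false), (1, false), (0, false), (1, true), (0, true), (1, false), (0, true), (1, true), (0, true), (1, false), (0, true), (1, true), (1, true), (0, false), (1, true), (0, false), (1, false), (0, false), (1, true), (0, true), (1, false), (0, true), (1, true), (0, true), (1, false), (0, true), (1, true), (1, true), (0, false), (1, true), (0, false), (1, false), (0, false), (1, true), (0, false), (1, false), (0, false), (1, true), (0, false), (1, false), (0, false), (1, true), (0, false), (0, false), (1, true), (0, false), (1, true), (0, false), (1, false), (0, false)]]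

/-- The paths of the targets in the log. -/
def paths : List (Nat × Nat) := [
    (3, 0x1a3600001000002),
    (18, 0x68d00004900012c01c7e00037c000e1007768000e500039c01df4000390000e200038001dbe00722001c7800012000000),
    (40, 0x68d0000070069d80000b006a800000f006b0001ac80088300070f00886800713001c5400717001c640071b0088a80071f0088d000723001c9400727001ca40072b0089100072f00893800733001cd400737001ce40073b00896801c60006f78000430071900004700695000002),
    (40, 0x68d0000070069d80000b006a800000f006b0000013000054000170000640001b00007401b10006c5801b1c00008c01b2600009c01b380000ac01b4e0000bc01b600000cc01b760000dc01b920000ec01bb2006fa00073c00896801c60006f78000430071900004700695000002),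
    (56, 0x40000700002401a7e008330005270014a40052b0014b4021bc0089b8007a00089800079c008974022880026540228c0049d002314006730019ca006720019c6006710019c2006700019be008e2c019ba008e240232c00623c0189100624c01895008c6801899008c800230900389000e2200388000e1e003870020fe0081800017d008188001810081b00018500821801a4100695000002),
    (62, 0x40000700002401a7e008330005270014a4021a2008318020c00069b002176001100021720010f002166008e300239a0068280239500681802393006808023a6008e9001a1d008ea001a21008ea801a25008eb001a290068ac01a2d0068bc01a310068cc023900064400190e0064300190a0064200190600641001902006400023580063f002344006280023300062700017d008188001810081b00018500821801a4100695000002)]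

theorem walks_ok : (List.zip targets paths).all (fun p => Nat.beq
    (walk data.F data.iv data.K data.Nf p.2.1 p.2.2 0 (pack (p.1.map (Data.code data.iv enc))))
    (stop 0 0)) = true := by decide +kernel

theorem targets_len : targets.length = paths.length := rfl

theorem target_one : ∀ l ∈ targets, PresentedGroup.mk (wordRels relWords) (FreeGroup.mk l) = 1 := by
  intro l hl
  obtain ⟨i, hi, rfl⟩ := List.mem_iff_getElem.1 hl
  have hm : (targets[i], paths[i]'(targets_len ▸ hi)) ∈ List.zip targets paths := by
    rw [List.mem_iff_getElem]
    exact ⟨i, by simpa [← targets_len] using hi, by simp⟩
  have h := List.all_eq_true.1 walks_ok _ hm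
  rw [Nat.beq_eq] at h
  have h' := Data.mem_sub_of_path mem_valid spells _ _ _ h
  simpa [Data.sub, subWords] using h'

end Cfsg.Agent.CosetCert.J4M24QMem
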